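import Cfsg.Agent.Lib.Techniques.QdBasics
import Cfsg.Prelude.Def_LocalEven
import Cfsg.Agent.Lib.Cores.Basic
import Mathlib.GroupTheory.Sylow

/-!
`Qd(p)` is not stable in the normalizer form for odd `p`.
-/

set_option autoImplicit false

namespace CfsgLib.Techniques.Qd

open Matrix Subgroup

variable {p : ℕ} [hp : Fact p.Prime]

local notation "S2" => Matrix.SpecialLinearGroup (Fin 2) (ZMod p)
local notation "NN" => (Fin 2 → ZMod p)

theorem sl2_ext_mulVec {M M' : S2}
    (h : ∀ v : NN, (M : Matrix (Fin 2) (Fin 2) (ZMod p)) *ᵥ v = (M' : Matrix (Fin 2) (Fin 2) (ZMod p)) *ᵥ v) :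
    M = M' :=
  Subtype.ext (Matrix.toLin'.injective (LinearMap.ext fun v => by simpa using h v))

theorem two_ne_zero_zmod (hp2 : p ≠ 2) : (2 : ZMod p) ≠ 0 := by
  intro h
  have h' : ((2 : ℕ) : ZMod p) = 0 := by exact_mod_cast h
  rw [ZMod.natCast_eq_zero_iff] at h'
  exact hp2 ((Nat.prime_dvd_prime_iff_eq hp.out Nat.prime_two).1 h')

theorem orderOf_neg_one_sl2 (hp2 : p ≠ 2) : orderOf (-1 : S2) = 2 := by
  refine orderOf_eq_prime (neg_one_sq) fun e => ?_
  have h := congrFun (congrFun (congrArg Subtype.val e) 0) 0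
  simp at h
  exact two_ne_zero_zmod hp2 (by linear_combination -h)

/-- The affine map with linear part `M` and translation `v`. -/
def aff (M : S2) (v : NN) : ↥(Cfsg.qd p) :=
  ⟨mk (M.1 0 0) (M.1 0 1) (M.1 1 0) (M.1 1 1) (v 0) (v 1)
    (by rw [← Matrix.det_fin_two]; exact M.2), mk_mem _ _ _ _ _ _ _⟩

theorem aff_mul (M M' : S2) (v v' : NN) :
    aff M v * aff M' v' = aff (M * M') ((M : Matrix (Fin 2) (Fin 2) (ZMod p)) *ᵥ v' + v) := by
  apply Subtype.ext
  simp only [aff, Subgroup.coe_mul, mk_mul]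
  simp [Matrix.mul_apply, Matrix.mulVec, dotProduct, Fin.sum_univ_two]

theorem exists_aff (x : ↥(Cfsg.qd p)) : ∃ M v, x = aff M v := by
  obtain ⟨a, b, c, d, x', y', h, hx⟩ := exists_mk x.2
  refine ⟨⟨!![a, b; c, d], by rw [Matrix.det_fin_two_of]; exact h⟩, ![x', y'], Subtype.ext ?_⟩
  rw [hx]
  simp [aff]

/-- The linear part, as a function. -/
def linFun (x : ↥(Cfsg.qd p)) : S2 := ⟨!![x.1.1 0 0, x.1.1 0 1; x.1.1 1 0, x.1.1 1 1], by
    obtain ⟨a, b, c, d, x', y', h, hx⟩ := exists_mk x.2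
    rw [Matrix.det_fin_two_of, hx]
    simpa [mk] using h⟩

theorem linFun_aff (M : S2) (v : NN) : linFun (aff M v) = M := by
  apply Subtype.ext
  ext i j
  fin_cases i <;> fin_cases j <;> simp [linFun, aff, mk]

/-- The linear part. -/
def lin : ↥(Cfsg.qd p) →* S2 := MonoidHom.mk' linFun fun x y => by
  obtain ⟨M, v, rfl⟩ := exists_aff x
  obtain ⟨M', v', rfl⟩ := exists_aff y
  rw [aff_mul, linFun_aff, linFun_aff, linFun_aff]

theorem lin_aff (M : S2) (v : NN) : lin (aff M v) = M := linFun_aff M v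

theorem lin_surjective : Function.Surjective (lin (p := p)) := fun M => ⟨aff M 0, lin_aff M 0⟩

theorem aff_inj {M M' : S2} {v v' : NN} (h : aff M v = aff M' v') : M = M' ∧ v = v' := by
  have hM : M = M' := by rw [← lin_aff M v, h, lin_aff]
  refine ⟨hM, ?_⟩
  have e := fun i => congrFun (congrFun (congrArg (fun z : ↥(Cfsg.qd p) => z.1.1) h) i) 2
  have e0 := e 0
  have e1 := e 1
  simp [aff, mk] at e0 e1
  ext i; fin_cases i
  · exact e0
  · exact e1

theorem lin_up (a : ZMod p) : ((lin (up a)) : Matrix (Fin 2) (Fin 2) (ZMod p)) = !![1, a; 0, 1] := by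
  ext i j
  fin_cases i <;> fin_cases j <;> simp [lin, linFun, up, mk]

/-- A translation. -/
def tr (v : NN) : ↥(Cfsg.qd p) := aff 1 v

theorem tr_zero : tr (0 : NN) = (1 : ↥(Cfsg.qd p)) := by
  apply Subtype.ext
  apply Subtype.ext
  ext i j
  fin_cases i <;> fin_cases j <;> simp [tr, aff, mk]

theorem mem_translations_iff {x : ↥(Cfsg.qd p)} : x ∈ translations p ↔ ∃ v, x = tr v := by
  constructor
  · rintro ⟨a, b, hab⟩
    refine ⟨![a, b], Subtype.ext ?_⟩
    rw [hab]
    simp [tr, aff]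
  · rintro ⟨v, rfl⟩
    exact ⟨v 0, v 1, by simp [tr, aff]⟩

theorem aff_conj_tr (M : S2) (v w : NN) :
    aff M v * tr w * (aff M v)⁻¹ = tr ((M : Matrix (Fin 2) (Fin 2) (ZMod p)) *ᵥ w) := by
  rw [mul_inv_eq_iff_eq_mul, tr, tr, aff_mul, aff_mul]
  simp [add_comm]

theorem ker_lin : (lin (p := p)).ker = translations p := by
  ext x
  obtain ⟨M, v, rfl⟩ := exists_aff x
  rw [MonoidHom.mem_ker, lin_aff, mem_translations_iff]
  constructor
  · rintro rfl; exact ⟨v, rfl⟩
  · rintro ⟨w, hw⟩; exact (aff_inj hw).1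

theorem up_one_zpow (k : ℤ) : (up 1 : ↥(Cfsg.qd p)) ^ k = up (k : ZMod p) := by
  induction k using Int.induction_on with
  | zero => simp [up_zero]
  | succ i ih => rw [_root_.zpow_add_one, ih, up_mul]; push_cast; rfl
  | pred i ih =>
    rw [_root_.zpow_sub_one, ih, mul_inv_eq_iff_eq_mul, up_mul]; push_cast; ring_nf

theorem up_eq_aff (a : ZMod p) : (up a : ↥(Cfsg.qd p)) = aff (lin (up a)) 0 := by
  apply Subtype.ext
  apply Subtype.ext
  ext i j
  fin_cases i <;> fin_cases j <;> simp [up, aff, mk, lin, linFun]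

theorem aff_up_mul (a b : ZMod p) (v w : NN) :
    aff (lin (up a)) v * aff (lin (up b)) w = aff (lin (up (a + b))) ![w 0 + a * w 1 + v 0, w 1 + v 1] := by
  rw [aff_mul, ← map_mul, up_mul]
  congr 1
  ext i
  fin_cases i <;> simp [lin_up, Matrix.mulVec, dotProduct, Fin.sum_univ_two]

/-- `Qd(p)` is not stable for odd `p`. -/
theorem qd_not_stable (hp2 : p ≠ 2) {Γ : Type*} [Group Γ] [Finite Γ] (e : Γ ≃* ↥(Cfsg.qd p)) :
    ¬ Cfsg.IsNormalizerPStable p Γ := by
  intro hst
  haveI : NeZero p := ⟨hp.out.ne_zero⟩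
  set P := (translations p).comap e.toMonoidHom with hP
  have hPn : P.Normal := (translations_normal).comap _
  have hPp : IsPGroup p P := IsPGroup.of_card (n := 2) (by
    rw [hP, Nat.card_congr (e.toEquiv.subtypeEquiv (fun _ => Iff.rfl) :
      ↥((translations p).comap e.toMonoidHom) ≃ ↥(translations p)), card_translations])
  set g := e.symm (up 1) with hg
  have hgN : g ∈ Subgroup.normalizer (P : Set Γ) := by
    rw [Subgroup.normalizer_eq_top P]; trivial
  have hquad : ⁅⁅P, Subgroup.zpowers g⁆, Subgroup.zpowers g⁆ = ⊥ := by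
    let L : Subgroup Γ :=
      ({ carrier := {x | ∃ t : ZMod p, x = tr ![t, 0]}
         one_mem' := ⟨0, by rw [show (![0, 0] : NN) = 0 by ext i; fin_cases i <;> rfl, tr_zero]⟩
         mul_mem' := by
           rintro _ _ ⟨s, rfl⟩ ⟨t, rfl⟩
           exact ⟨t + s, by simp [tr, aff_mul]⟩
         inv_mem' := by
           rintro _ ⟨s, rfl⟩
           refine ⟨-s, inv_eq_of_mul_eq_one_right ?_⟩
           rw [← tr_zero]; simp [tr, aff_mul]; congr 1; ext i; fin_cases i <;> rfl } : Subgroup ↥(Cfsg.qd p)).comap e.toMonoidHom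
    have h1 : ⁅P, Subgroup.zpowers g⁆ ≤ L := by
      rw [Subgroup.commutator_le]
      intro x hx y hy
      obtain ⟨k, rfl⟩ := Subgroup.mem_zpowers_iff.1 hy
      obtain ⟨v, hv⟩ := mem_translations_iff.1 (show e x ∈ translations p from hx)
      have hu : e (g ^ k) = aff (lin (up (k : ZMod p))) 0 := by
        rw [map_zpow, hg, e.apply_symm_apply, up_one_zpow, ← up_eq_aff]
      show ∃ t : ZMod p, e (x * g ^ k * x⁻¹ * (g ^ k)⁻¹) = tr ![t, 0]
      refine ⟨-((k : ZMod p) * v 1), ?_⟩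
      simp only [map_mul, map_inv, hu, hv]
      rw [mul_inv_eq_iff_eq_mul, mul_inv_eq_iff_eq_mul, tr, tr, aff_mul, aff_mul, aff_mul]
      congr 1
      · simp
      · ext j; fin_cases j <;> simp [lin_up, Matrix.mulVec, dotProduct, Fin.sum_univ_two] <;> ring
    rw [Subgroup.commutator_eq_bot_iff_le_centralizer]
    refine h1.trans ?_
    intro x hx
    rw [Subgroup.mem_centralizer_iff]
    intro y hy
    obtain ⟨k, rfl⟩ := Subgroup.mem_zpowers_iff.1 hy
    refine ((Commute.zpow_left ?_ k)).eq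
    obtain ⟨t, ht⟩ := hx
    apply e.injective
    change e x = _ at ht
    rw [map_mul, map_mul, ht, hg, e.apply_symm_apply, up_eq_aff, tr, aff_mul, aff_mul]
    congr 1
    · simp
    · ext j; fin_cases j <;> simp [lin_up, Matrix.mulVec, dotProduct, Fin.sum_univ_two]
  have h := hst P hPp g hgN hquad
  set C := (Subgroup.centralizer (P : Set Γ)).subgroupOf (Subgroup.normalizer (P : Set Γ))
  set N0 : Subgroup ↥(Cfsg.qd p) :=
    ((Cfsg.pCore p (↥(Subgroup.normalizer (P : Set Γ)) ⧸ C)).comap (QuotientGroup.mk' C)).map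
      (e.toMonoidHom.comp (Subgroup.normalizer (P : Set Γ)).subtype) with hN0
  have hsurj : Function.Surjective (e.toMonoidHom.comp (Subgroup.normalizer (P : Set Γ)).subtype) :=
    fun y => ⟨⟨e.symm y, by rw [Subgroup.normalizer_eq_top P]; trivial⟩, e.apply_symm_apply y⟩
  have hN0n : N0.Normal := Subgroup.Normal.map inferInstance _ hsurj
  have hup : up 1 ∈ N0 := ⟨⟨g, hgN⟩, h, e.apply_symm_apply _⟩
  have hneg : (negOne : ↥(Cfsg.qd p)) ∈ N0 :=
    Subgroup.normalClosure_le_normal (Set.singleton_subset_iff.2 hup)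
      (diag_mem_normalClosure (-1) (-1) (by ring))
  obtain ⟨y, hy, hyn⟩ := hneg
  obtain ⟨j, hj⟩ := CfsgLib.Cores.isPGroup_pCore (G := ↥(Subgroup.normalizer (P : Set Γ)) ⧸ C) p ⟨_, hy⟩
  have hy2 : y * y = 1 := by
    apply Subtype.ext
    apply e.injective
    change e (y : Γ) = negOne at hyn
    simp [hyn, negOne_mul_self]
  have h1 : (QuotientGroup.mk' C y) = 1 := by
    have hsq : (QuotientGroup.mk' C y) ^ 2 = 1 := by rw [← map_pow, pow_two, hy2, map_one]
    have hpk : (QuotientGroup.mk' C y) ^ p ^ j = 1 := by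
      have := congrArg Subtype.val hj
      simpa using this
    have := Nat.dvd_gcd (orderOf_dvd_of_pow_eq_one hsq) (orderOf_dvd_of_pow_eq_one hpk)
    rw [((Nat.coprime_primes Nat.prime_two hp.out).2 (Ne.symm hp2)).pow_right j |>.gcd_eq_one,
      Nat.dvd_one] at this
    exact orderOf_eq_one_iff.1 this
  have h2 : (y : Γ) ∈ Subgroup.centralizer (P : Set Γ) :=
    Subgroup.mem_subgroupOf.1 ((QuotientGroup.eq_one_iff _).1 h1)
  have hmem : e.symm (tr ![1, 0]) ∈ P := by
    show e (e.symm _) ∈ translations p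
    rw [e.apply_symm_apply]; exact mem_translations_iff.2 ⟨_, rfl⟩
  have h3 := congrArg e (Subgroup.mem_centralizer_iff.1 h2 _ hmem)
  change e (y : Γ) = negOne at hyn
  simp only [map_mul, e.apply_symm_apply, hyn] at h3
  have h4 := negOne_conj_translations (p := p) (tr ![1, 0]) (mem_translations_iff.2 ⟨_, rfl⟩)
  rw [← h3, mul_inv_cancel_right, eq_inv_iff_mul_eq_one, tr, aff_mul, ← tr_zero] at h4
  have h5 := congrFun (aff_inj h4).2 0
  simp at h5
  exact two_ne_zero_zmod hp2 (by linear_combination h5)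

end CfsgLib.Techniques.Qd
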