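import Cfsg.Agent.Lib.LocalEven.QdOver
import Cfsg.Agent.Lib.LocalEven.S4Section
import Cfsg.Agent.Lib.PStab.QdSection
import Cfsg.Agent.Lib.Techniques.Qd.Structure
import Cfsg.Agent.Lib.Techniques.Functor.Induced
import Cfsg.Agent.Lib.Techniques.Functor.Control
import Mathlib.FieldTheory.Finiteness

/-!
`Qd(p)` as an obstruction: failure of control of fusion by characteristic functors, `SL(2, p)` in local
subgroups, and the equivalence with stability of all sections.
-/

set_option autoImplicit false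

namespace CfsgLib.Techniques.Qd

open Matrix Cfsg
open CfsgLib.LocalEven

universe u v

variable {p : ℕ} [hp : Fact p.Prime]

local notation "NN" => (Fin 2 → ZMod p)
set_option quotPrecheck false in
local notation "QQ" => ↥(Cfsg.qdOver (ZMod p))

theorem qd_eq_qdOver : Cfsg.qd p = Cfsg.qdOver (ZMod p) := rfl

/-- In `Qd(p)` the normalizer of a Sylow subgroup does not realise all fusion inside it. -/
theorem exists_uncontrolled (S : Sylow p QQ) :
    ∃ a h : QQ, a ∈ (QdOver.trans : Subgroup QQ) ∧ h * a * h⁻¹ ∈ (QdOver.trans : Subgroup QQ) ∧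
      ∀ x ∈ Subgroup.normalizer ((S : Subgroup QQ) : Set QQ), x * a * x⁻¹ ≠ h * a * h⁻¹ := by
  obtain ⟨U, hU⟩ := QdOver.exists_sylow_eq_unip (p := p) (F := ZMod p)
  obtain ⟨g, hg⟩ := MulAction.exists_smul_eq QQ U S
  have hS : (S : Subgroup QQ) = (QdOver.unip : Subgroup QQ).map (MulAut.conj g).toMonoidHom := by
    rw [← hg, ← hU]; rfl
  have hNS : Subgroup.normalizer ((S : Subgroup QQ) : Set QQ) =
      (QdOver.borel : Subgroup QQ).map (MulAut.conj g).toMonoidHom := by
    rw [hS, ← QdOver.normalizer_unip, Subgroup.map_equiv_normalizer_eq]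
  have hmem : ∀ t : QQ, t ∈ (QdOver.trans : Subgroup QQ) → g * t * g⁻¹ ∈ (QdOver.trans : Subgroup QQ) :=
    fun t ht => QdOver.conj_trans ht
  let M : Matrix.SpecialLinearGroup (Fin 2) (ZMod p) := ⟨!![0, -1; 1, 0], by simp [Matrix.det_fin_two_of]⟩
  set t1 : QQ := QdOver.aff 1 ![1, 0] with ht1
  have ht1m : t1 ∈ (QdOver.trans : Subgroup QQ) := QdOver.mem_trans.2 (QdOver.lin_aff _ _)
  set w : QQ := QdOver.aff M 0
  have htr : QdOver.tr (w * t1 * w⁻¹) = ![0, 1] := by
    rw [QdOver.tr_conj ht1m, ht1, QdOver.tr_aff, QdOver.lin_aff]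
    ext i; fin_cases i <;> simp [M, Matrix.mulVec, dotProduct, Fin.sum_univ_two]
  refine ⟨g * t1 * g⁻¹, g * w * g⁻¹, hmem _ ht1m, ?_, fun x hx h => ?_⟩
  · rw [show g * w * g⁻¹ * (g * t1 * g⁻¹) * (g * w * g⁻¹)⁻¹ = g * (w * t1 * w⁻¹) * g⁻¹ by group]
    exact hmem _ (QdOver.conj_trans ht1m)
  · rw [hNS] at hx
    obtain ⟨b, hb, rfl⟩ := hx
    simp only [MulEquiv.coe_toMonoidHom, MulAut.conj_apply] at h
    rw [show g * b * g⁻¹ * (g * t1 * g⁻¹) * (g * b * g⁻¹)⁻¹ = g * (b * t1 * b⁻¹) * g⁻¹ by group,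
      show g * w * g⁻¹ * (g * t1 * g⁻¹) * (g * w * g⁻¹)⁻¹ = g * (w * t1 * w⁻¹) * g⁻¹ by group] at h
    have h1 := congrArg QdOver.tr (mul_left_cancel (mul_right_cancel h))
    rw [htr, QdOver.tr_conj ht1m, ht1, QdOver.tr_aff] at h1
    have h2 := congrFun h1 1
    have h3 : (QdOver.lin b).1 1 0 = 0 := QdOver.mem_borel.1 hb
    simp [Matrix.mulVec, dotProduct, Fin.sum_univ_two, h3] at h2

/-- Transport: in a group isomorphic to `Qd(p)` no characteristic functor controls fusion. -/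
theorem uncontrolled_of_equiv {Γ : Type u} [Group Γ] [Finite Γ] (e : Γ ≃* ↥(Cfsg.qd p))
    {T : Subgroup Γ} (hT : IsPGroup p T) (hTi : ¬ p ∣ T.relIndex ⊤) :
    ∃ a h : Γ, (∀ S' : Subgroup Γ, IsPGroup p S' → ¬ p ∣ S'.index → a ∈ S' ∧ h * a * h⁻¹ ∈ S') ∧ ∀ W : ∀ (Q : Type u) [Group Q], Subgroup Q,
      Cfsg.IsCharPFunctor.{u} p W →
      Subgroup.normalizer ((Cfsg.inducedFunctor W T : Subgroup Γ) : Set Γ) ≤ Subgroup.normalizer (T : Set Γ) ∧
      ∀ x ∈ Subgroup.normalizer (T : Set Γ), x * a * x⁻¹ ≠ h * a * h⁻¹ := by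
  set f : Γ ≃* QQ := e with hf
  have hTp : IsPGroup p (T.map f.toMonoidHom) := hT.map _
  have hTi' : ¬ p ∣ (T.map f.toMonoidHom).index := by
    rw [Subgroup.relIndex_top_right] at hTi
    simpa [Subgroup.index_map_equiv] using hTi
  set S := hTp.toSylow hTi' with hS
  have hSc : ((S : Sylow p QQ) : Subgroup QQ) = T.map f.toMonoidHom := rfl
  have hN : ∀ (U : Subgroup Γ) (x : Γ), x ∈ Subgroup.normalizer (U : Set Γ) ↔
      f x ∈ Subgroup.normalizer ((U.map f.toMonoidHom : Subgroup QQ) : Set QQ) := fun U x => by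
    rw [← Subgroup.map_equiv_normalizer_eq, Subgroup.mem_map_equiv, f.symm_apply_apply]
  obtain ⟨a', h', ha, hha, hno⟩ := exists_uncontrolled S
  rw [hSc] at hno
  obtain ⟨a, rfl⟩ := f.surjective a'
  obtain ⟨h, rfl⟩ := f.surjective h'
  refine ⟨a, h, fun S' hS' hS'i => ?_, fun W hW => ⟨?_, fun x hx heq => hno (f x) ((hN T x).1 hx) ?_⟩⟩
  · haveI : (QdOver.trans : Subgroup QQ).Normal := QdOver.trans_normal
    set V := (QdOver.trans : Subgroup QQ).comap f.toMonoidHom with hV
    have hVp : IsPGroup p V := QdOver.isPGroup_trans.comap_of_injective f.toMonoidHom f.injective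
    have hle : V ≤ ((hS'.toSylow hS'i : Sylow p Γ) : Subgroup Γ) :=
      (CfsgLib.Cores.le_pCore hVp).trans (CfsgLib.Cores.pCore_le_sylow _)
    refine ⟨hle ha, hle ?_⟩
    show f (h * a * h⁻¹) ∈ (QdOver.trans : Subgroup QQ)
    rw [map_mul, map_mul, map_inv]
    exact hha
  · have hT1 : T ≠ ⊥ := by
      intro h0
      subst h0
      rw [Subgroup.map_bot] at hSc
      obtain ⟨U, hU⟩ := QdOver.exists_sylow_eq_unip (p := p) (F := ZMod p)
      obtain ⟨g, hg⟩ := MulAction.exists_smul_eq QQ S U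
      have : (QdOver.unip : Subgroup QQ) = ⊥ := by
        rw [← hU, ← hg, Sylow.coe_subgroup_smul, hSc, Subgroup.smul_bot]
      have h1 : (QdOver.aff 1 ![1, 0] : QQ) ∈ (QdOver.unip : Subgroup QQ) :=
        QdOver.trans_le_unip (QdOver.mem_trans.2 (QdOver.lin_aff _ _))
      rw [this, Subgroup.mem_bot] at h1
      have h2 := congrArg QdOver.tr h1
      rw [QdOver.tr_aff, QdOver.tr_one] at h2
      simpa using congrFun h2 0
    set T' := (W ↥T).map (f.subgroupMap T).toMonoidHom with hT'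
    have hne : T' ≠ ⊥ := by
      rw [hT', Ne, Subgroup.map_eq_bot_iff_of_injective _ (f.subgroupMap T).injective]
      exact hW.1 ↥T hT ((Subgroup.nontrivial_iff_ne_bot T).2 hT1)
    have hchar : T'.Characteristic := by
      rw [Subgroup.characteristic_iff_map_eq]
      intro φ
      have h1 := hW.2 ↥T ↥T hT (((f.subgroupMap T).trans φ).trans (f.subgroupMap T).symm)
      conv_rhs => rw [hT', ← h1]
      rw [hT', Subgroup.map_map, Subgroup.map_map]
      congr 1
      refine MonoidHom.ext fun x => ?_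
      show φ (f.subgroupMap T x) = f.subgroupMap T ((f.subgroupMap T).symm (φ (f.subgroupMap T x)))
      rw [MulEquiv.apply_symm_apply]
    have hmapW : T'.map (T.map f.toMonoidHom).subtype = (Cfsg.inducedFunctor W T).map f.toMonoidHom := by
      ext z
      constructor
      · rintro ⟨_, ⟨y, hy, rfl⟩, rfl⟩
        exact ⟨(y : Γ), ⟨y, hy, rfl⟩, rfl⟩
      · rintro ⟨_, ⟨y, hy, rfl⟩, rfl⟩
        exact ⟨f.subgroupMap T y, ⟨y, hy, rfl⟩, rfl⟩
    have h2 := (QdOver.normalizer_characteristic_eq S T' hne hchar).1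
    intro x hx
    rw [hN] at hx ⊢
    rw [← hmapW] at hx
    exact h2.le hx
  · simpa [mul_assoc] using congrArg f heq

/-- `Qd(p)` involved gives `SL(2, p)` in the normalizer of a nontrivial `p`-subgroup. -/
theorem exists_local_sl2 {G : Type u} [Group G] [Finite G] (h : Cfsg.Involves ↥(Cfsg.qd p) G) :
    ∃ P : Subgroup G, IsPGroup p ↥P ∧ P ≠ ⊥ ∧
      Cfsg.Involves (Matrix.SpecialLinearGroup (Fin 2) (ZMod p)) ↥(Subgroup.normalizer (P : Set G)) := by
  obtain ⟨X, f, hf⟩ := CfsgLib.LocalEven.Offender.exists_hom_of_involves h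
  let φ : X →* QQ := f
  have hφ : Function.Surjective φ := hf
  let g : X →* Matrix.SpecialLinearGroup (Fin 2) (ZMod p) := QdOver.lin.comp φ
  have hg : Function.Surjective g := QdOver.lin_surjective.comp hφ
  set W := (QdOver.trans : Subgroup QQ).comap φ with hW
  haveI hWn : W.Normal := QdOver.trans_normal.comap φ
  let Q : Sylow p W := default
  set Qm := (Q : Subgroup W).map W.subtype
  have hfr : Subgroup.normalizer (Qm : Set X) ⊔ W = ⊤ := Sylow.normalizer_sup_eq_top Q
  have hQ1 : Qm ≠ ⊥ := by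
    intro h0
    rw [Subgroup.map_eq_bot_iff_of_injective _ W.subtype_injective] at h0
    have hnd : ¬ p ∣ Nat.card W := by
      have := Q.not_dvd_index
      rwa [h0, Subgroup.index_bot] at this
    obtain ⟨x, hx⟩ := hφ (QdOver.aff 1 ![1, 0])
    have hxW : x ∈ W := by show φ x ∈ (QdOver.trans : Subgroup QQ); rw [hx]; exact QdOver.mem_trans.2 (QdOver.lin_aff _ _)
    have hne : φ x ≠ 1 := by
      rw [hx]; intro e
      have h2 := congrArg QdOver.tr e
      rw [QdOver.tr_aff, QdOver.tr_one] at h2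
      simpa using congrFun h2 0
    obtain ⟨k, hk⟩ := QdOver.isPGroup_trans (p := p) (F := ZMod p) (⟨φ x, hxW⟩ : (QdOver.trans : Subgroup QQ))
    have h1 : (φ x) ^ p ^ k = 1 := by simpa using congrArg Subtype.val hk
    have h2 : (φ x) ^ Nat.card W = 1 := by
      have := congrArg (fun z : W => φ z.1) (pow_card_eq_one' (x := (⟨x, hxW⟩ : W)))
      simp only [SubgroupClass.coe_pow, map_pow, OneMemClass.coe_one, map_one] at this
      exact this
    apply hne
    have := Nat.dvd_gcd (orderOf_dvd_of_pow_eq_one h1) (orderOf_dvd_of_pow_eq_one h2)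
    rw [((hp.out.coprime_iff_not_dvd.2 hnd).pow_left k).gcd_eq_one, Nat.dvd_one] at this
    exact orderOf_eq_one_iff.1 this
  refine ⟨Qm.map X.subtype, (Q.2.map W.subtype).map X.subtype,
    fun h0 => hQ1 ((Subgroup.map_eq_bot_iff_of_injective _ X.subtype_injective).1 h0), ?_⟩
  have hN : ∀ y ∈ Subgroup.normalizer (Qm : Set X),
      (y : G) ∈ Subgroup.normalizer ((Qm.map X.subtype : Subgroup G) : Set G) := fun y hy =>
    Subgroup.le_normalizer_map X.subtype ⟨y, hy, rfl⟩
  refine CfsgLib.LocalEven.Offender.involves_of_injective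
    ((X.subtype.comp (Subgroup.normalizer (Qm : Set X)).subtype).codRestrict _ fun y => hN _ y.2)
    (fun a b hab => by
      apply Subtype.ext; apply Subtype.ext; have h2 := congrArg Subtype.val hab; exact h2) ?_
  refine CfsgLib.LocalEven.Offender.involves_of_hom ⊤
    ((g.comp (Subgroup.normalizer (Qm : Set X)).subtype).comp (Subgroup.subtype ⊤)) fun M => ?_
  obtain ⟨x, rfl⟩ := hg M
  obtain ⟨n, hn, w, hw, rfl⟩ := Subgroup.mem_sup_of_normal_right.1 (show x ∈ Subgroup.normalizer (Qm : Set X) ⊔ W by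
    rw [hfr]; trivial)
  refine ⟨⟨⟨n, hn⟩, trivial⟩, ?_⟩
  show g n = g (n * w)
  rw [map_mul, show g w = 1 from QdOver.mem_trans.1 hw, mul_one]

/-- A group isomorphic to a section inherits sections' properties; `Qd(p)` involved gives an unstable section. -/
theorem exists_section_equiv {G : Type u} [Group G] (h : Cfsg.Involves ↥(Cfsg.qd p) G) :
    ∃ (K R : Subgroup G) (_ : (R.subgroupOf K).Normal), Nonempty (↥K ⧸ R.subgroupOf K ≃* ↥(Cfsg.qd p)) := h

/-- `Qd(p)` is not involved iff all sections are stable (p odd). -/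
theorem not_involves_iff_sections_stable {G : Type u} [Group G] [Finite G] (hp2 : p ≠ 2) :
    ¬ Cfsg.Involves ↥(Cfsg.qd p) G ↔ ∀ (K R : Subgroup G) [hR : (R.subgroupOf K).Normal],
      Cfsg.IsNormalizerPStable p (↥K ⧸ R.subgroupOf K) := by
  constructor
  · intro hqd K R hR P hP g hg hq
    have hqd' : ¬ Cfsg.Involves ↥(Cfsg.qd p) (↥K ⧸ R.subgroupOf K) := fun h => hqd
      (CfsgLib.LocalEven.Offender.involves_of_injective K.subtype K.subtype_injective
        (CfsgLib.LocalEven.Offender.involves_of_surjective _ (QuotientGroup.mk'_surjective _) h))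
    exact CfsgLib.PStab.mk_mem_pCore_of_inCoreAct hg
      (CfsgLib.PStab.stableAll_of_qdFree hp2 hqd' P hP g hg ((CfsgLib.PStab.isQuad_iff hg).2 hq))
  · intro hst h
    obtain ⟨K, R, hR, ⟨e⟩⟩ := h
    exact qd_not_stable hp2 e (hst K R)

end CfsgLib.Techniques.Qd
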